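import Groth.Prelude.Def_W4c5qllcourbesmultMultCrv
import Mathlib

/-!
# `R[X]/(X^n)` is a Frobenius algebra over `R`
-/

set_option autoImplicit false
set_option linter.style.haveILetI false

universe u v w

noncomputable section

open Polynomial

namespace MultCrv29

open MultCrv

variable (R : Type u) [CommRing R] (n : ℕ)

lemma z_pow_eq_zero {k : ℕ} (hk : n ≤ k) : z R n ^ k = 0 := by
  rw [← map_pow, Ideal.Quotient.eq_zero_iff_mem, Ideal.mem_span_singleton]
  exact pow_dvd_pow _ hk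

instance instFree : Module.Free R (Rn R n) := (monic_X_pow n).free_quotient

instance instFinite : Module.Finite R (Rn R n) := (monic_X_pow n).finite_quotient

/-- the trace form: the coefficient of `z^(n-1)` -/
def τ : Rn R n →ₗ[R] R :=
  (Submodule.liftQ ((Ideal.span {(X : R[X]) ^ n}).restrictScalars R)
    ((lcoeff R (n - 1)).comp (modByMonicHom ((X : R[X]) ^ n))) (by
    intro p hp
    simp [modByMonicHom_apply, (modByMonic_eq_zero_iff_dvd (monic_X_pow n)).2 (Ideal.mem_span_singleton.1 hp)])).comp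
    (Submodule.Quotient.restrictScalarsEquiv R _).symm.toLinearMap

variable {R n}

lemma τ_mk (hn : 1 ≤ n) (p : R[X]) : τ R n (Ideal.Quotient.mk _ p) = p.coeff (n - 1) := by
  have h : (X : R[X]) ^ n ∣ p - p %ₘ X ^ n :=
    ⟨p /ₘ X ^ n, by linear_combination -(modByMonic_add_div p ((X : R[X]) ^ n))⟩
  have := X_pow_dvd_iff.1 h (n - 1) (by omega)
  rw [coeff_sub, sub_eq_zero] at this
  exact this.symm

lemma τ_z_pow_mul_mk (hn : 1 ≤ n) {k : ℕ} (hk : k < n) (p : R[X]) :
    τ R n (z R n ^ k * Ideal.Quotient.mk _ p) = p.coeff (n - 1 - k) := by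
  rw [← map_pow, ← map_mul, τ_mk hn, coeff_X_pow_mul', if_pos (by omega)]

lemma τ_z_pow (hn : 1 ≤ n) (l : ℕ) : τ R n (z R n ^ l) = if l = n - 1 then 1 else 0 := by
  rw [← map_pow, τ_mk hn, coeff_X_pow]
  exact if_congr eq_comm rfl rfl

lemma eq_sum (hn : 1 ≤ n) (a : Rn R n) :
    a = ∑ j ∈ Finset.range n, τ R n (z R n ^ (n - 1 - j) * a) • z R n ^ j := by
  obtain ⟨p, rfl⟩ := Ideal.Quotient.mk_surjective a
  have h : ∀ j ∈ Finset.range n, τ R n (z R n ^ (n - 1 - j) * Ideal.Quotient.mk _ p) • z R n ^ j =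
      Ideal.Quotient.mk _ (p.coeff j • X ^ j) := fun j hj => by
    rw [Finset.mem_range] at hj
    rw [τ_z_pow_mul_mk hn (by omega), show n - 1 - (n - 1 - j) = j by omega, ← map_pow]
    rfl
  rw [Finset.sum_congr rfl h, ← map_sum, Ideal.Quotient.eq, Ideal.mem_span_singleton, X_pow_dvd_iff]
  intro d hd
  simp [hd, coeff_X_pow]

lemma ext_τ (hn : 1 ≤ n) {x y : Rn R n} (h : ∀ a, τ R n (a * x) = τ R n (a * y)) : x = y := by
  rw [eq_sum hn x, eq_sum hn y]
  exact Finset.sum_congr rfl fun j _ => by rw [h]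

section Dual

variable {M : Type v} [AddCommGroup M] [Module (Rn R n) M] [Module R M] [IsScalarTower R (Rn R n) M]

/-- the value of the `Rn`-linear functional attached to an `R`-linear functional -/
def phiFun (g : M →ₗ[R] R) (m : M) : Rn R n :=
  ∑ j ∈ Finset.range n, g (z R n ^ (n - 1 - j) • m) • z R n ^ j

lemma τ_mul_phiFun (hn : 1 ≤ n) (g : M →ₗ[R] R) (a : Rn R n) (m : M) :
    τ R n (a * phiFun g m) = g (a • m) := by
  have h : ∀ k < n, τ R n (z R n ^ k * phiFun g m) = g (z R n ^ k • m) := fun k hk => by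
    simp only [phiFun, Finset.mul_sum, mul_smul_comm, ← pow_add, map_sum, map_smul, τ_z_pow hn]
    rw [Finset.sum_eq_single_of_mem (n - 1 - k) (Finset.mem_range.2 (by omega)) (fun j hj hne => by
      rw [if_neg (by have := Finset.mem_range.1 hj; omega), smul_zero])]
    rw [if_pos (by omega), smul_eq_mul, mul_one, show n - 1 - (n - 1 - k) = k by omega]
  rw [eq_sum hn a, Finset.sum_mul, Finset.sum_smul, map_sum, map_sum]
  refine Finset.sum_congr rfl fun j hj => ?_
  rw [smul_mul_assoc, map_smul, h j (Finset.mem_range.1 hj), smul_assoc, ← g.map_smul]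

/-- the `Rn`-linear functional attached to an `R`-linear functional -/
def Φ (hn : 1 ≤ n) (g : M →ₗ[R] R) : M →ₗ[Rn R n] Rn R n where
  toFun := phiFun g
  map_add' x y := ext_τ hn fun a => by
    rw [τ_mul_phiFun hn, mul_add, map_add, τ_mul_phiFun hn, τ_mul_phiFun hn, smul_add, map_add]
  map_smul' b x := ext_τ hn fun a => by
    rw [τ_mul_phiFun hn, RingHom.id_apply, smul_eq_mul, ← mul_assoc, τ_mul_phiFun hn, mul_smul]

lemma τ_mul_Φ (hn : 1 ≤ n) (g : M →ₗ[R] R) (a : Rn R n) (m : M) :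
    τ R n (a * Φ hn g m) = g (a • m) := τ_mul_phiFun hn g a m

lemma τ_comp_Φ (hn : 1 ≤ n) (g : M →ₗ[R] R) (m : M) : τ R n (Φ hn g m) = g m := by
  simpa using τ_mul_Φ hn g 1 m

lemma eq_Φ (hn : 1 ≤ n) (ψ : M →ₗ[Rn R n] Rn R n) :
    Φ hn ((τ R n).comp (ψ.restrictScalars R)) = ψ := by
  refine LinearMap.ext fun m => ext_τ hn fun a => ?_
  rw [τ_mul_Φ]
  simp

end Dual

end MultCrv29

end
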