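import Groth.Agent.Lib.MultCrv29.Modules

/-!
# `Ext` over `R[X]/(X^n)`
-/

set_option autoImplicit false
set_option linter.style.haveILetI false

universe u

noncomputable section

open CategoryTheory

namespace MultCrv29

open MultCrv

variable {R : Type u} [CommRing R] {n : ℕ}

section

variable [IsDomain R] [IsPrincipalIdealRing R]

lemma subsingleton_ext_one (hn : 1 ≤ n) (M : Type u) [AddCommGroup M] [Module (Rn R n) M] [Module R M]
    [IsScalarTower R (Rn R n) M] [Module.Finite (Rn R n) M] [Module.IsTorsionFree R M] :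
    Subsingleton (Abelian.Ext (ModuleCat.of (Rn R n) M) (ModuleCat.of (Rn R n) (Rn R n)) 1) := by
  refine subsingleton_of_forall_eq 0 fun x => ?_
  obtain ⟨r, π, hπ⟩ := Module.Finite.exists_fin' (Rn R n) M
  let S : ShortComplex (ModuleCat.{u} (Rn R n)) :=
    ShortComplex.mk (ModuleCat.ofHom (LinearMap.ker π).subtype) (ModuleCat.ofHom π) (by ext x; exact x.2)
  have hS : S.ShortExact :=
    { exact := (ShortComplex.moduleCat_exact_iff S).2 fun x hx => ⟨⟨x, hx⟩, rfl⟩
      mono_f := (ModuleCat.mono_iff_injective _).2 Subtype.val_injective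
      epi_g := (ModuleCat.epi_iff_surjective _).2 hπ }
  haveI : Projective S.X₂ := (IsProjective.iff_projective (Fin r → Rn R n)).1 inferInstance
  obtain ⟨y, hy⟩ := Abelian.Ext.contravariant_sequence_exact₃ hS _ x
    (Abelian.Ext.eq_zero_of_projective _) (n₀ := 0) rfl
  obtain ⟨φ, rfl⟩ := (Abelian.Ext.mk₀_bijective _ _).2 y
  haveI := finite_base (R := R) (n := n) M
  haveI := free_base (R := R) (n := n) (M := M)
  obtain ⟨ψ, hψ⟩ := exists_extend_of_exact hn (LinearMap.ker π).subtype π Subtype.val_injective hπ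
    (Submodule.range_subtype _) φ.hom
  have : φ = S.f ≫ ModuleCat.ofHom ψ := ModuleCat.hom_ext hψ.symm
  rw [← hy, this, ← Abelian.Ext.mk₀_comp_mk₀]
  exact hS.extClass_comp_assoc _

lemma extends_of_ext_one (M : Type u) [AddCommGroup M] [Module (Rn R n) M]
    (h : Subsingleton (Abelian.Ext (ModuleCat.of (Rn R n) M) (ModuleCat.of (Rn R n) (Rn R n)) 1))
    {r : ℕ} (π : (Fin r → Rn R n) →ₗ[Rn R n] M) (hπ : Function.Surjective π)
    (φ : LinearMap.ker π →ₗ[Rn R n] Rn R n) :
    ∃ ψ : (Fin r → Rn R n) →ₗ[Rn R n] Rn R n, ψ.comp (LinearMap.ker π).subtype = φ := by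
  let S : ShortComplex (ModuleCat.{u} (Rn R n)) :=
    ShortComplex.mk (ModuleCat.ofHom (LinearMap.ker π).subtype) (ModuleCat.ofHom π) (by ext x; exact x.2)
  have hS : S.ShortExact :=
    { exact := (ShortComplex.moduleCat_exact_iff S).2 fun x hx => ⟨⟨x, hx⟩, rfl⟩
      mono_f := (ModuleCat.mono_iff_injective _).2 Subtype.val_injective
      epi_g := (ModuleCat.epi_iff_surjective _).2 hπ }
  obtain ⟨y, hy⟩ := Abelian.Ext.contravariant_sequence_exact₁ hS (ModuleCat.of (Rn R n) (Rn R n))
    (Abelian.Ext.mk₀ (ModuleCat.ofHom φ)) (n₁ := 1) rfl (Subsingleton.elim (α := Abelian.Ext (ModuleCat.of (Rn R n) M) _ 1) _ _)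
  obtain ⟨ψ, rfl⟩ := (Abelian.Ext.mk₀_bijective _ _).2 y
  rw [Abelian.Ext.mk₀_comp_mk₀] at hy
  exact ⟨ψ.hom, congrArg ModuleCat.Hom.hom ((Abelian.Ext.mk₀_bijective _ _).1 hy)⟩

lemma isTorsionFree_of_ext_one (hn : 1 ≤ n) (M : Type u) [AddCommGroup M] [Module (Rn R n) M] [Module R M]
    [IsScalarTower R (Rn R n) M] [Module.Finite (Rn R n) M]
    (h : Subsingleton (Abelian.Ext (ModuleCat.of (Rn R n) M) (ModuleCat.of (Rn R n) (Rn R n)) 1)) :
    Module.IsTorsionFree R M := by
  obtain ⟨r, π, hπ⟩ := Module.Finite.exists_fin' (Rn R n) M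
  let K := LinearMap.ker π
  haveI : Module.Finite R (Rn R n) := instFinite R n
  haveI : Module.Free R (Rn R n) := instFree R n
  haveI : Module.Finite R (Fin r → Rn R n) := inferInstance
  haveI : Module.Free R (Fin r → Rn R n) := inferInstance
  let K' : Submodule R (Fin r → Rn R n) := K.restrictScalars R
  haveI : Module.Finite R K' := inferInstance
  haveI : Module.Free R K' := inferInstance
  let b := Module.Free.chooseBasis R K'
  let K'' : Type u := K'
  have hext : ∀ i, ∃ g : (Fin r → Rn R n) →ₗ[R] R, ∀ k : K', g k = b.coord i k := fun i => by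
    let g0 : K →ₗ[R] R := (b.coord i).comp
      ({ toFun := fun k => ⟨k.1, k.2⟩, map_add' := fun _ _ => rfl, map_smul' := fun _ _ => rfl } : K →ₗ[R] K')
    obtain ⟨ψ, hψ⟩ := extends_of_ext_one M h π hπ (Φ hn g0)
    refine ⟨(τ R n).comp (ψ.restrictScalars R), fun k => ?_⟩
    have := LinearMap.congr_fun hψ ⟨k.1, k.2⟩
    rw [LinearMap.comp_apply] at this
    show τ R n (ψ k.1) = _
    rw [show (ψ k.1) = Φ hn g0 ⟨k.1, k.2⟩ from this, τ_comp_Φ]
    rfl
  choose g hg using hext
  let ρ : (Fin r → Rn R n) →ₗ[R] K' := ∑ i, (g i).smulRight (b i)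
  have hρ : ∀ k : K', ρ k = k := fun k => by
    simp [ρ, hg, b.sum_repr]
  rw [Module.isTorsionFree_iff_smul_eq_zero]
  intro c m hcm
  refine or_iff_not_imp_left.2 fun hc => ?_
  obtain ⟨x, rfl⟩ := hπ m
  have hx : c • x ∈ K' := by
    show π (c • x) = 0
    rw [LinearMap.map_smul_of_tower, hcm]
  have h1 : c • (x - (ρ x : Fin r → Rn R n)) = 0 := by
    rw [smul_sub, sub_eq_zero]
    have := hρ ⟨c • x, hx⟩
    rw [map_smul] at this
    exact (congrArg Subtype.val this).symm
  have h2 : x = (ρ x : Fin r → Rn R n) := sub_eq_zero.1 ((smul_eq_zero.1 h1).resolve_left hc)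
  rw [h2]
  exact (ρ x).2

theorem subsingleton_ext (hn : 1 ≤ n) : ∀ (i : ℕ) (M : Type u) [AddCommGroup M] [Module (Rn R n) M]
    [Module R M] [IsScalarTower R (Rn R n) M] [Module.Finite (Rn R n) M] [Module.IsTorsionFree R M],
    Subsingleton (Abelian.Ext (ModuleCat.of (Rn R n) M) (ModuleCat.of (Rn R n) (Rn R n)) (i + 1)) := by
  intro i
  induction i with
  | zero => intros; exact subsingleton_ext_one hn _
  | succ i ih =>
    intro M _ _ _ _ _ _
    obtain ⟨r, π, hπ⟩ := Module.Finite.exists_fin' (Rn R n) M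
    haveI : Module.Free R (Rn R n) := instFree R n
    haveI : IsNoetherianRing (Rn R n) := inferInstance
    haveI : Module.IsTorsionFree R (LinearMap.ker π) := by
      rw [Module.isTorsionFree_iff_smul_eq_zero]
      intro c k hck
      rcases smul_eq_zero.1 (congrArg Subtype.val hck : c • (k : Fin r → Rn R n) = 0) with h | h
      · exact Or.inl h
      · exact Or.inr (Subtype.ext h)
    haveI := ih (LinearMap.ker π)
    let S : ShortComplex (ModuleCat.{u} (Rn R n)) :=
      ShortComplex.mk (ModuleCat.ofHom (LinearMap.ker π).subtype) (ModuleCat.ofHom π) (by ext x; exact x.2)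
    have hS : S.ShortExact :=
      { exact := (ShortComplex.moduleCat_exact_iff S).2 fun x hx => ⟨⟨x, hx⟩, rfl⟩
        mono_f := (ModuleCat.mono_iff_injective _).2 Subtype.val_injective
        epi_g := (ModuleCat.epi_iff_surjective _).2 hπ }
    haveI : Projective S.X₂ := (IsProjective.iff_projective (Fin r → Rn R n)).1 inferInstance
    refine subsingleton_of_forall_eq 0 fun x => ?_
    obtain ⟨y, hy⟩ := Abelian.Ext.contravariant_sequence_exact₃ hS _ x
      (Abelian.Ext.eq_zero_of_projective _) (n₀ := i + 1) (by omega)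
    rw [← hy, Subsingleton.elim (α := Abelian.Ext (ModuleCat.of (Rn R n) (LinearMap.ker π)) _ (i + 1)) y 0,
      Abelian.Ext.comp_zero]

theorem subsingleton_ext_two (hn : 1 ≤ n) (i : ℕ) (M : Type u) [AddCommGroup M] [Module (Rn R n) M]
    [Module.Finite (Rn R n) M] :
    Subsingleton (Abelian.Ext (ModuleCat.of (Rn R n) M) (ModuleCat.of (Rn R n) (Rn R n)) (i + 2)) := by
  obtain ⟨r, π, hπ⟩ := Module.Finite.exists_fin' (Rn R n) M
  haveI : Module.Free R (Rn R n) := instFree R n
  haveI : Module.IsTorsionFree R (LinearMap.ker π) := by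
    rw [Module.isTorsionFree_iff_smul_eq_zero]
    intro c k hck
    rcases smul_eq_zero.1 (congrArg Subtype.val hck : c • (k : Fin r → Rn R n) = 0) with h | h
    · exact Or.inl h
    · exact Or.inr (Subtype.ext h)
  haveI := subsingleton_ext (R := R) hn i (LinearMap.ker π)
  let S : ShortComplex (ModuleCat.{u} (Rn R n)) :=
    ShortComplex.mk (ModuleCat.ofHom (LinearMap.ker π).subtype) (ModuleCat.ofHom π) (by ext x; exact x.2)
  have hS : S.ShortExact :=
    { exact := (ShortComplex.moduleCat_exact_iff S).2 fun x hx => ⟨⟨x, hx⟩, rfl⟩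
      mono_f := (ModuleCat.mono_iff_injective _).2 Subtype.val_injective
      epi_g := (ModuleCat.epi_iff_surjective _).2 hπ }
  haveI : Projective S.X₂ := (IsProjective.iff_projective (Fin r → Rn R n)).1 inferInstance
  refine subsingleton_of_forall_eq 0 fun x => ?_
  obtain ⟨y, hy⟩ := Abelian.Ext.contravariant_sequence_exact₃ hS _ x
    (Abelian.Ext.eq_zero_of_projective _) (n₀ := i + 1) (by omega)
  rw [← hy, Subsingleton.elim (α := Abelian.Ext (ModuleCat.of (Rn R n) (LinearMap.ker π)) _ (i + 1)) y 0,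
    Abelian.Ext.comp_zero]

/-- multiplication by `z^(n-1)` factors through a finite free module -/
lemma zpow_factors (hn : 1 ≤ n) (M : Type u) [AddCommGroup M] [Module (Rn R n) M] [Module R M]
    [IsScalarTower R (Rn R n) M] [Module.Finite (Rn R n) M] [Module.IsTorsionFree R M] :
    ∃ (s : ℕ) (a : M →ₗ[Rn R n] (Fin s → Rn R n)) (b : (Fin s → Rn R n) →ₗ[Rn R n] M),
      ∀ m, b (a m) = z R n ^ (n - 1) • m := by
  haveI := finite_base (R := R) (n := n) M
  let T : Submodule R M :=
    { carrier := {m | ∃ c : R, c ≠ 0 ∧ z R n ^ (n - 1) • (c • m) = 0}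
      zero_mem' := ⟨1, one_ne_zero, by simp⟩
      add_mem' := fun {x y} ⟨c, hc, hx⟩ ⟨d, hd, hy⟩ => ⟨c * d, mul_ne_zero hc hd, by
        rw [smul_add, smul_add, show (c * d) • x = d • (c • x) by rw [smul_smul, mul_comm],
          show (c * d) • y = c • (d • y) by rw [smul_smul], smul_comm (z R n ^ (n - 1)) d (c • x),
          smul_comm (z R n ^ (n - 1)) c (d • y), hx, hy, smul_zero, smul_zero, add_zero]⟩
      smul_mem' := fun e x ⟨c, hc, hx⟩ => ⟨c, hc, by
        rw [smul_comm c e, smul_comm (z R n ^ (n - 1)) e, hx, smul_zero]⟩ }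
  haveI : Module.IsTorsionFree R (M ⧸ T) := by
    rw [Module.isTorsionFree_iff_smul_eq_zero]
    intro c q hcq
    obtain ⟨m, rfl⟩ := T.mkQ_surjective q
    refine or_iff_not_imp_left.2 fun hc => ?_
    rw [← map_smul, Submodule.mkQ_apply, Submodule.Quotient.mk_eq_zero] at hcq
    obtain ⟨d, hd, h⟩ := hcq
    rw [Submodule.mkQ_apply, Submodule.Quotient.mk_eq_zero]
    exact ⟨d * c, mul_ne_zero hd hc, by rw [mul_smul]; exact h⟩
  haveI : Module.Free R (M ⧸ T) := Module.free_of_finite_type_torsion_free'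
  let b := Module.Free.chooseBasis R (M ⧸ T)
  let e := Fintype.equivFin (Module.Free.ChooseBasisIndex R (M ⧸ T))
  let bb := b.reindex e
  choose y hy using fun i => T.mkQ_surjective (bb i)
  let q : Fin (Fintype.card (Module.Free.ChooseBasisIndex R (M ⧸ T))) → (M →ₗ[R] R) :=
    fun i => (bb.coord i).comp T.mkQ
  have hzero : ∀ m, z R n ^ (n - 1) • m = 0 → T.mkQ m = 0 := fun m hm => by
    rw [Submodule.mkQ_apply, Submodule.Quotient.mk_eq_zero]
    exact ⟨1, one_ne_zero, by rw [one_smul, hm]⟩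
  refine ⟨_, LinearMap.pi fun i => Φ hn (q i), Fintype.linearCombination (Rn R n) y, fun m => ?_⟩
  have hΦ : ∀ i, Φ hn (q i) m = q i m • z R n ^ (n - 1) := fun i => by
    show phiFun (q i) m = _
    rw [phiFun, Finset.sum_eq_single_of_mem (n - 1) (Finset.mem_range.2 (by omega)) (fun j hj hne => ?_)]
    · rw [Nat.sub_self, pow_zero, one_smul]
    · have : z R n ^ (n - 1) • (z R n ^ (n - 1 - j) • m) = 0 := by
        rw [smul_smul, ← pow_add, z_pow_eq_zero R n (by have := Finset.mem_range.1 hj; omega)]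
        exact zero_smul (Rn R n) m
      rw [show q i (z R n ^ (n - 1 - j) • m) = 0 by
        show bb.coord i (T.mkQ _) = 0
        rw [hzero _ this, map_zero], zero_smul]
  rw [Fintype.linearCombination_apply]
  simp only [LinearMap.pi_apply, hΦ, smul_assoc]
  have hsum : T.mkQ (∑ i, q i m • y i) = T.mkQ m := by
    simp only [map_sum, map_smul, hy]
    exact bb.sum_repr (T.mkQ m)
  rw [Submodule.mkQ_apply, Submodule.mkQ_apply, Submodule.Quotient.eq] at hsum
  obtain ⟨c, hc, h⟩ := hsum
  rw [smul_comm] at h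
  have h2 := (smul_eq_zero.1 h).resolve_left hc
  rw [smul_sub, sub_eq_zero, Finset.smul_sum] at h2
  rw [← h2]
  exact Finset.sum_congr rfl fun i _ => smul_comm _ _ _

theorem zpow_smul_ext_eq_zero (hn : 1 ≤ n) (M : Type u) [AddCommGroup M] [Module (Rn R n) M] [Module R M]
    [IsScalarTower R (Rn R n) M] [Module.Finite (Rn R n) M] [Module.IsTorsionFree R M]
    (N : ModuleCat.{u} (Rn R n)) (i : ℕ)
    (x : Abelian.Ext (ModuleCat.of (Rn R n) M) N (i + 1)) : z R n ^ (n - 1) • x = 0 := by
  obtain ⟨s, a, b, hab⟩ := zpow_factors (R := R) hn M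
  haveI : Projective (ModuleCat.of (Rn R n) (Fin s → Rn R n)) :=
    (IsProjective.iff_projective (Fin s → Rn R n)).1 inferInstance
  have h : z R n ^ (n - 1) • 𝟙 (ModuleCat.of (Rn R n) M) = ModuleCat.ofHom a ≫ ModuleCat.ofHom b := by
    ext m
    exact (hab m).symm
  conv_lhs => rw [← Abelian.Ext.mk₀_id_comp x]
  rw [← Abelian.Ext.smul_comp, ← Abelian.Ext.mk₀_smul, h, ← Abelian.Ext.mk₀_comp_mk₀,
    Abelian.Ext.comp_assoc_of_second_deg_zero, Abelian.Ext.eq_zero_of_projective ((Abelian.Ext.mk₀ _).comp x _),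
    Abelian.Ext.comp_zero]

theorem zpow_smul_ext_eq_zero_two (hn : 1 ≤ n) (M : Type u) [AddCommGroup M] [Module (Rn R n) M]
    [Module.Finite (Rn R n) M] (N : ModuleCat.{u} (Rn R n)) (i : ℕ)
    (x : Abelian.Ext (ModuleCat.of (Rn R n) M) N (i + 2)) : z R n ^ (n - 1) • x = 0 := by
  obtain ⟨r, π, hπ⟩ := Module.Finite.exists_fin' (Rn R n) M
  haveI : Module.Free R (Rn R n) := instFree R n
  haveI : Module.IsTorsionFree R (LinearMap.ker π) := by
    rw [Module.isTorsionFree_iff_smul_eq_zero]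
    intro c k hck
    rcases smul_eq_zero.1 (congrArg Subtype.val hck : c • (k : Fin r → Rn R n) = 0) with h | h
    · exact Or.inl h
    · exact Or.inr (Subtype.ext h)
  let S : ShortComplex (ModuleCat.{u} (Rn R n)) :=
    ShortComplex.mk (ModuleCat.ofHom (LinearMap.ker π).subtype) (ModuleCat.ofHom π) (by ext x; exact x.2)
  have hS : S.ShortExact :=
    { exact := (ShortComplex.moduleCat_exact_iff S).2 fun x hx => ⟨⟨x, hx⟩, rfl⟩
      mono_f := (ModuleCat.mono_iff_injective _).2 Subtype.val_injective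
      epi_g := (ModuleCat.epi_iff_surjective _).2 hπ }
  haveI : Projective S.X₂ := (IsProjective.iff_projective (Fin r → Rn R n)).1 inferInstance
  obtain ⟨y, hy⟩ := Abelian.Ext.contravariant_sequence_exact₃ hS _ x
    (Abelian.Ext.eq_zero_of_projective _) (n₀ := i + 1) (by omega)
  rw [← hy, ← Abelian.Ext.comp_smul, zpow_smul_ext_eq_zero (R := R) hn _ N i y, Abelian.Ext.comp_zero]

end

end MultCrv29

end
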