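import Groth.Agent.Lib.MultCrv29.Modules

/-!
# Canonical filtrations
-/

set_option autoImplicit false
set_option linter.style.haveILetI false

universe u v w

noncomputable section

namespace MultCrv29

open MultCrv

variable {R : Type u} [CommRing R] {n : ℕ} {M : Type v} [AddCommGroup M] [Module (Rn R n) M]

lemma mem_filt {i : ℕ} {x : M} : x ∈ filt R n M i ↔ ∃ y, z R n ^ i • y = x := Iff.rfl

lemma mem_filt2 {i : ℕ} {x : M} : x ∈ filt2 R n M i ↔ z R n ^ i • x = 0 := Iff.rfl

lemma zpow_smul_eq_zero {k : ℕ} (hk : n ≤ k) (x : M) : z R n ^ k • x = 0 := by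
  rw [z_pow_eq_zero R n hk]; exact zero_smul (Rn R n) x

lemma filt_succ_le (i : ℕ) : filt R n M (i + 1) ≤ filt R n M i := by
  rintro _ ⟨y, rfl⟩
  exact ⟨z R n • y, by change z R n ^ i • (z R n • y) = z R n ^ (i + 1) • y; rw [smul_smul, ← pow_succ]⟩

lemma surjective_of_mod_z {N : Type w} [AddCommGroup N] [Module (Rn R n) N] (φ : M →ₗ[Rn R n] N)
    (h : ∀ v : N, ∃ u : M, v - φ u ∈ filt R n N 1) : Function.Surjective φ := by
  have hk : ∀ k (v : N), ∃ u w, v = φ u + z R n ^ k • w := fun k => by
    induction k with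
    | zero => exact fun v => ⟨0, v, by simp⟩
    | succ k ih =>
      intro v
      obtain ⟨u, w, rfl⟩ := ih v
      obtain ⟨u', y, hy⟩ := h w
      replace hy : z R n ^ 1 • y = w - φ u' := hy
      refine ⟨u + z R n ^ k • u', y, ?_⟩
      rw [pow_succ, mul_smul, ← pow_one (z R n), hy, pow_one, smul_sub, map_add, map_smul]
      abel
  intro v
  obtain ⟨u, w, rfl⟩ := hk n v
  exact ⟨u, by rw [zpow_smul_eq_zero le_rfl, add_zero]⟩

lemma eq_zero_of_forall_mem_filt2_one {P : M → Prop} (hP : ∀ u, P u → P (z R n • u))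
    (h : ∀ u ∈ filt2 R n M 1, P u → u = 0) : ∀ u, P u → u = 0 := by
  have : ∀ j u, P u → z R n ^ j • u = 0 → u = 0 := fun j => by
    induction j with
    | zero => intro u _ hu; simpa using hu
    | succ j ih =>
      intro u hu hj
      have h1 : z R n • u = 0 := ih _ (hP u hu) (by rw [smul_smul, ← pow_succ, hj])
      exact h u (mem_filt2.2 (by rw [pow_one, h1])) hu
  exact fun u hu => this n u hu (zpow_smul_eq_zero le_rfl u)

lemma injective_of_injOn_torsion {N : Type w} [AddCommGroup N] [Module (Rn R n) N] (φ : M →ₗ[Rn R n] N)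
    (h : ∀ u : M, u ∈ filt2 R n M 1 → φ u = 0 → u = 0) : Function.Injective φ :=
  (injective_iff_map_eq_zero φ).2
    (eq_zero_of_forall_mem_filt2_one (P := fun u => φ u = 0) (fun u hu => by rw [map_smul, hu, smul_zero]) h)

variable [Module R M] [IsScalarTower R (Rn R n) M]

lemma finrank_eq_add [IsDomain R] {A : Type v} {B : Type w} [AddCommGroup A] [Module R A] [AddCommGroup B]
    [Module R B] [Module.Finite R A] (f : A →ₗ[R] B) (hf : Function.Surjective f) :
    Module.finrank R B + Module.finrank R (LinearMap.ker f) = Module.finrank R A := by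
  rw [← (f.quotKerEquivOfSurjective hf).finrank_eq]
  exact (LinearMap.ker f).finrank_quotient_add_finrank

lemma finite_sub [IsNoetherianRing R] [Module.Finite (Rn R n) M] (N : Submodule (Rn R n) M) :
    Module.Finite R N := by
  haveI := finite_base (R := R) (n := n) M
  exact inferInstanceAs (Module.Finite R (N.restrictScalars R))

lemma free_of_torsionFree [IsDomain R] [IsPrincipalIdealRing R] {N : Type w} [AddCommGroup N] [Module R N]
    [Module.Finite R N] (h : ∀ (c : R) (x : N), c • x = 0 → c = 0 ∨ x = 0) : Module.Free R N := by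
  haveI : Module.IsTorsionFree R N := Module.isTorsionFree_iff_smul_eq_zero.2 fun c x => h c x
  exact Module.free_of_finite_type_torsion_free'

lemma torsionFree_of_free [IsDomain R] {N : Type w} [AddCommGroup N] [Module R N] [Module.Free R N]
    (c : R) (x : N) (h : c • x = 0) : c = 0 ∨ x = 0 := smul_eq_zero.1 h

/-- `u ↦ z^i u` from `M^(i+1)` to `z^i M` -/
def theta (i : ℕ) : filt2 R n M (i + 1) →ₗ[Rn R n] filt R n M i :=
  ((z R n ^ i • (LinearMap.id : M →ₗ[Rn R n] M)).domRestrict (filt2 R n M (i + 1))).codRestrict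
    (filt R n M i) fun u => ⟨(u : M), rfl⟩

lemma theta_apply (i : ℕ) (u : filt2 R n M (i + 1)) : (theta i u : M) = z R n ^ i • (u : M) := rfl

lemma ker_theta (i : ℕ) :
    LinearMap.ker (theta (M := M) i) = Submodule.comap (filt2 R n M (i + 1)).subtype (filt2 R n M i) := by
  ext u
  rw [LinearMap.mem_ker, Submodule.mem_comap, ← ZeroMemClass.coe_eq_zero]
  rfl

/-- multiplication by `z` from `z^i M` to `z^(i+1) M` -/
def mu (i : ℕ) : filt R n M i →ₗ[Rn R n] filt R n M (i + 1) :=
  ((z R n • (LinearMap.id : M →ₗ[Rn R n] M)).domRestrict (filt R n M i)).codRestrict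
    (filt R n M (i + 1)) (by
      rintro ⟨_, y, rfl⟩
      refine ⟨y, ?_⟩
      change z R n ^ (i + 1) • y = z R n • (z R n ^ i • y)
      rw [smul_smul, ← pow_succ'])

lemma mu_surjective (i : ℕ) : Function.Surjective (mu (M := M) (R := R) (n := n) i) := by
  rintro ⟨_, y, rfl⟩
  refine ⟨⟨z R n ^ i • y, y, rfl⟩, Subtype.ext ?_⟩
  change z R n • (z R n ^ i • y) = z R n ^ (i + 1) • y
  rw [smul_smul, ← pow_succ']

lemma range_theta (i : ℕ) : LinearMap.range (theta (M := M) (R := R) (n := n) i) = LinearMap.ker (mu i) := by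
  ext x
  constructor
  · rintro ⟨u, rfl⟩
    refine Subtype.ext ?_
    change z R n • (z R n ^ i • (u : M)) = 0
    rw [smul_smul, ← pow_succ']
    exact u.2
  · intro hx
    obtain ⟨_, y, rfl⟩ := x
    have h : z R n • (z R n ^ i • y) = 0 := congrArg Subtype.val hx
    rw [smul_smul, ← pow_succ'] at h
    exact ⟨⟨y, h⟩, rfl⟩

lemma finrank_G2_succ [IsDomain R] [IsNoetherianRing R] [Module.Finite (Rn R n) M] (i : ℕ) :
    Module.finrank R (G2 R n M (i + 1)) = Module.finrank R (G1 R n M i) := by
  haveI := finite_sub (R := R) (filt R n M i)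
  let e : G2 R n M (i + 1) ≃ₗ[Rn R n] LinearMap.ker (mu (M := M) (R := R) (n := n) i) :=
    ((Submodule.quotEquivOfEq _ _ (ker_theta i).symm).trans (theta i).quotKerEquivRange).trans
      (LinearEquiv.ofEq _ _ (range_theta i))
  rw [(e.restrictScalars R).finrank_eq]
  have h1 := finrank_eq_add ((mu (M := M) (R := R) (n := n) i).restrictScalars R) (mu_surjective i)
  have h2 := finrank_eq_add
    ((Submodule.comap (filt R n M i).subtype (filt R n M (i + 1))).mkQ.restrictScalars R)
    (Submodule.mkQ_surjective _)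
  have h3 : Module.finrank R (LinearMap.ker
      ((Submodule.comap (filt R n M i).subtype (filt R n M (i + 1))).mkQ.restrictScalars R)) =
      Module.finrank R (filt R n M (i + 1)) := by
    rw [LinearMap.ker_restrictScalars, Submodule.ker_mkQ]
    exact LinearEquiv.finrank_eq
      ({ toFun := fun x => ⟨(x.1 : M), x.2⟩
         invFun := fun x => ⟨⟨(x : M), filt_succ_le i x.2⟩, x.2⟩
         map_add' := fun _ _ => rfl
         map_smul' := fun _ _ => rfl } :
        ↥((Submodule.comap (filt R n M i).subtype (filt R n M (i + 1))).restrictScalars R) ≃ₗ[R]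
          ↥(filt R n M (i + 1)))
  rw [LinearMap.ker_restrictScalars] at h1
  change _ + Module.finrank R (LinearMap.ker (mu (M := M) (R := R) (n := n) i)) = _ at h1
  rw [h3] at h2
  change Module.finrank R (G1 R n M i) + _ = _ at h2
  omega

lemma isTorsionFree_iff_free [IsDomain R] [IsPrincipalIdealRing R] [Module.Finite (Rn R n) M] :
    Module.IsTorsionFree R M ↔ Module.Free R (filt2 R n M 1) := by
  haveI := finite_sub (R := R) (filt2 R n M 1)
  refine ⟨fun _ => free_of_torsionFree fun c x h => ?_, fun h => ?_⟩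
  · rcases smul_eq_zero.1 (congrArg Subtype.val h : c • (x : M) = 0) with h | h
    · exact Or.inl h
    · exact Or.inr (Subtype.ext h)
  · rw [Module.isTorsionFree_iff_smul_eq_zero]
    intro c m hcm
    refine or_iff_not_imp_left.2 fun hc => ?_
    refine eq_zero_of_forall_mem_filt2_one (R := R) (n := n) (P := fun u : M => c • u = 0)
      (fun u hu => by rw [← smul_comm, hu, smul_zero]) (fun u hu hcu => ?_) m hcm
    exact congrArg Subtype.val
      ((torsionFree_of_free c (⟨u, hu⟩ : filt2 R n M 1) (Subtype.ext hcu)).resolve_left hc)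

lemma free_G2 [IsDomain R] [IsPrincipalIdealRing R] [Module.Finite (Rn R n) M] [Module.IsTorsionFree R M]
    (i : ℕ) : Module.Free R (G2 R n M (i + 1)) := by
  haveI := finite_sub (R := R) (filt2 R n M (i + 1))
  haveI : Module.Finite R (G2 R n M (i + 1)) :=
    Module.Finite.of_surjective
      ((Submodule.comap (filt2 R n M (i + 1)).subtype (filt2 R n M i)).mkQ.restrictScalars R)
      (Submodule.mkQ_surjective _)
  refine free_of_torsionFree fun c q h => ?_
  obtain ⟨u, rfl⟩ := Submodule.mkQ_surjective _ q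
  refine or_iff_not_imp_left.2 fun hc => ?_
  rw [← LinearMap.map_smul_of_tower, Submodule.mkQ_apply, Submodule.Quotient.mk_eq_zero] at h
  rw [Submodule.mkQ_apply, Submodule.Quotient.mk_eq_zero]
  have h' : z R n ^ i • (c • (u : M)) = 0 := h
  rw [smul_comm] at h'
  exact (smul_eq_zero.1 h').resolve_left hc

/-- `G^(i+1)(M) → G_i(M)`, `u ↦ z^i u` -/
def omegaMap (i : ℕ) : G2 R n M (i + 1) →ₗ[Rn R n] G1 R n M i :=
  Submodule.mapQ _ _ (theta i) fun u hu => by
    rw [Submodule.mem_comap] at hu ⊢
    have h : theta i u = 0 := by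
      rw [← LinearMap.mem_ker, ker_theta]
      exact hu
    rw [Submodule.mem_comap, h]
    exact Submodule.zero_mem _

lemma ker_omegaMap (i : ℕ) :
    LinearMap.ker (omegaMap (M := M) (R := R) (n := n) i) = LinearMap.range (lamG2 R n M i) := by
  ext q
  obtain ⟨u, rfl⟩ := Submodule.mkQ_surjective _ q
  constructor
  · intro h
    rw [LinearMap.mem_ker, Submodule.mkQ_apply, omegaMap, Submodule.mapQ_apply, Submodule.Quotient.mk_eq_zero] at h
    obtain ⟨w, hw⟩ := h
    change z R n ^ (i + 1) • w = z R n ^ i • (u : M) at hw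
    have hw2 : z R n ^ (i + 2) • w = 0 := by
      rw [pow_succ', mul_smul, hw, smul_smul, ← pow_succ']
      exact u.2
    refine ⟨Submodule.Quotient.mk ⟨w, hw2⟩, ?_⟩
    rw [lamG2, Submodule.mapQ_apply, Submodule.mkQ_apply, Submodule.Quotient.eq]
    change z R n ^ i • (z R n • w - (u : M)) = 0
    rw [smul_sub, smul_smul, ← pow_succ, hw, sub_self]
  · rintro ⟨q, hq⟩
    obtain ⟨w, rfl⟩ := Submodule.mkQ_surjective _ q
    rw [← hq, LinearMap.mem_ker, Submodule.mkQ_apply, lamG2, Submodule.mapQ_apply, omegaMap, Submodule.mapQ_apply,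
      Submodule.Quotient.mk_eq_zero]
    refine ⟨(w : M), ?_⟩
    change z R n ^ (i + 1) • (w : M) = z R n ^ i • (z R n • (w : M))
    rw [smul_smul, ← pow_succ]

lemma exists_omega_of_zeta (i : ℕ) (x : filt R n M i) (h : z R n • (x : M) ∈ filt R n M (i + 2)) :
    (Submodule.Quotient.mk x : G1 R n M i) ∈ LinearMap.range (omegaMap i) := by
  obtain ⟨_, y, rfl⟩ := x
  obtain ⟨w, hw⟩ := h
  change z R n ^ (i + 2) • w = z R n • (z R n ^ i • y) at hw
  have hu : z R n ^ (i + 1) • (y - z R n • w) = 0 := by
    rw [smul_sub, sub_eq_zero, smul_smul (z R n ^ (i + 1)), ← pow_succ, hw, smul_smul, ← pow_succ']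
  refine ⟨Submodule.Quotient.mk ⟨y - z R n • w, hu⟩, ?_⟩
  rw [omegaMap, Submodule.mapQ_apply, Submodule.Quotient.eq]
  refine ⟨-w, ?_⟩
  change z R n ^ (i + 1) • -w = z R n ^ i • (y - z R n • w) - z R n ^ i • y
  rw [smul_sub, smul_neg, smul_smul, ← pow_succ]
  abel

lemma free_G1_iff [IsDomain R] [IsPrincipalIdealRing R] [Module.Finite (Rn R n) M] :
    (∀ i, i < n → Module.Free R (G1 R n M i)) ↔ (∀ i, i < n → Module.Free R (Gam2 R n M i)) := by
  have hfin : ∀ i, Module.Finite R (G1 R n M i) := fun i => by
    haveI := finite_sub (R := R) (filt R n M i)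
    exact Module.Finite.of_surjective
      ((Submodule.comap (filt R n M i).subtype (filt R n M (i + 1))).mkQ.restrictScalars R)
      (Submodule.mkQ_surjective _)
  let e : ∀ i, Gam2 R n M i ≃ₗ[R] LinearMap.range (omegaMap (M := M) (R := R) (n := n) i) := fun i =>
    ((Submodule.quotEquivOfEq _ _ (ker_omegaMap i).symm).trans (omegaMap i).quotKerEquivRange).restrictScalars R
  constructor
  · intro h i hi
    haveI := h i hi
    haveI := hfin i
    haveI : Module.Finite R (LinearMap.range (omegaMap (M := M) (R := R) (n := n) i)) :=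
      inferInstanceAs (Module.Finite R ((LinearMap.range (omegaMap (M := M) (R := R) (n := n) i)).restrictScalars R))
    haveI : Module.Free R (LinearMap.range (omegaMap (M := M) (R := R) (n := n) i)) :=
      free_of_torsionFree fun c x hx =>
        (torsionFree_of_free c x.1 (congrArg Subtype.val hx)).imp id fun h => Subtype.ext h
    exact Module.Free.of_equiv (e i).symm
  · intro h i hi
    have key : ∀ k i, n ≤ i + k → ∀ (c : R) (q : G1 R n M i), c • q = 0 → c = 0 ∨ q = 0 := fun k => by
      induction k with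
      | zero =>
        intro i hi c q _
        refine Or.inr ?_
        obtain ⟨⟨_, y, rfl⟩, rfl⟩ := Submodule.mkQ_surjective _ q
        rw [Submodule.mkQ_apply, Submodule.Quotient.mk_eq_zero, Submodule.mem_comap]
        change z R n ^ i • y ∈ _
        rw [zpow_smul_eq_zero (by omega)]
        exact Submodule.zero_mem _
      | succ k ih =>
        intro i hi c q hq
        obtain ⟨x, rfl⟩ := Submodule.mkQ_surjective _ q
        rcases Nat.lt_or_ge i n with hin | hin
        swap
        · refine Or.inr ?_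
          obtain ⟨_, y, rfl⟩ := x
          rw [Submodule.mkQ_apply, Submodule.Quotient.mk_eq_zero, Submodule.mem_comap]
          change z R n ^ i • y ∈ _
          rw [zpow_smul_eq_zero hin]
          exact Submodule.zero_mem _
        refine or_iff_not_imp_left.2 fun hc => ?_
        rw [← LinearMap.map_smul_of_tower, Submodule.mkQ_apply, Submodule.Quotient.mk_eq_zero, Submodule.mem_comap] at hq
        have h2 : c • (Submodule.Quotient.mk (mu i x) : G1 R n M (i + 1)) = 0 := by
          rw [← Submodule.Quotient.mk_smul, Submodule.Quotient.mk_eq_zero, Submodule.mem_comap]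
          obtain ⟨w, hw⟩ := hq
          refine ⟨w, ?_⟩
          change z R n ^ (i + 1) • w = c • (x : M) at hw
          change z R n ^ (i + 1 + 1) • w = c • (z R n • (x : M))
          rw [pow_succ', mul_smul, hw, smul_comm]
        have h3 := (ih (i + 1) (by omega) c _ h2).resolve_left hc
        rw [Submodule.Quotient.mk_eq_zero, Submodule.mem_comap] at h3
        have h4 := exists_omega_of_zeta i x h3
        haveI := h i hin
        have h5 : c • (⟨_, h4⟩ : LinearMap.range (omegaMap (M := M) (R := R) (n := n) i)) = 0 := by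
          refine Subtype.ext ?_
          change c • (Submodule.Quotient.mk x : G1 R n M i) = 0
          rw [← Submodule.Quotient.mk_smul, Submodule.Quotient.mk_eq_zero]
          exact hq
        have h6 : c • (e i).symm ⟨_, h4⟩ = 0 := by rw [← map_smul, h5, map_zero]
        have h7 := (torsionFree_of_free c _ h6).resolve_left hc
        rw [LinearEquiv.map_eq_zero_iff] at h7
        exact congrArg Subtype.val h7
    haveI := hfin i
    exact free_of_torsionFree (key n i (by omega))

end MultCrv29

end
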