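import Groth.Agent.Lib.MultCrv29.Basic

/-!
# Modules over `R[X]/(X^n)`: extension of functionals, reflexivity, torsion
-/

set_option autoImplicit false
set_option linter.style.haveILetI false

universe u v w v'

noncomputable section

namespace MultCrv29

open MultCrv

variable {R : Type u} [CommRing R] {n : ℕ}

/-- an `Rn`-functional extends along `f` as soon as `f` has an `R`-linear retraction -/
lemma exists_extend (hn : 1 ≤ n) {M' : Type v} {M : Type w}
    [AddCommGroup M'] [Module (Rn R n) M'] [Module R M'] [IsScalarTower R (Rn R n) M']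
    [AddCommGroup M] [Module (Rn R n) M] [Module R M] [IsScalarTower R (Rn R n) M]
    (f : M' →ₗ[Rn R n] M) (r : M →ₗ[R] M') (hr : ∀ x, r (f x) = x) (ψ : M' →ₗ[Rn R n] Rn R n) :
    ∃ Ψ : M →ₗ[Rn R n] Rn R n, Ψ.comp f = ψ := by
  refine ⟨Φ hn (((τ R n).comp (ψ.restrictScalars R)).comp r), LinearMap.ext fun x => ext_τ hn fun a => ?_⟩
  rw [LinearMap.comp_apply, τ_mul_Φ, ← map_smul f, LinearMap.comp_apply, hr, LinearMap.comp_apply,
    LinearMap.coe_restrictScalars, map_smul, smul_eq_mul]

/-- the retraction attached to a short exact sequence with free cokernel -/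
lemma exists_retraction {M' : Type v} {M : Type w} {M'' : Type v'}
    [AddCommGroup M'] [Module R M'] [AddCommGroup M] [Module R M] [AddCommGroup M''] [Module R M'']
    [Module.Projective R M''] (f : M' →ₗ[R] M) (g : M →ₗ[R] M'') (hf : Function.Injective f)
    (hg : Function.Surjective g) (hfg : LinearMap.range f = LinearMap.ker g) :
    ∃ r : M →ₗ[R] M', ∀ x, r (f x) = x := by
  obtain ⟨s, hs⟩ := Module.projective_lifting_property g LinearMap.id hg
  let p : M →ₗ[R] LinearMap.range f := (LinearMap.id - s.comp g).codRestrict _ fun m => by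
    rw [hfg, LinearMap.mem_ker]
    have := LinearMap.congr_fun hs (g m)
    simp only [LinearMap.comp_apply, LinearMap.id_apply] at this
    simp [this]
  refine ⟨(LinearEquiv.ofInjective f hf).symm.toLinearMap.comp p, fun x => ?_⟩
  rw [LinearMap.comp_apply, LinearEquiv.coe_coe, LinearEquiv.symm_apply_eq]
  have : g (f x) = 0 := by
    rw [← LinearMap.mem_ker, ← hfg]
    exact LinearMap.mem_range_self f x
  exact Subtype.ext (show f x - s (g (f x)) = f x by rw [this, map_zero, sub_zero])

lemma exists_extend_of_exact (hn : 1 ≤ n) {M' : Type v} {M : Type w} {M'' : Type v'}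
    [AddCommGroup M'] [Module (Rn R n) M']
    [AddCommGroup M] [Module (Rn R n) M] [Module R M] [IsScalarTower R (Rn R n) M]
    [AddCommGroup M''] [Module (Rn R n) M''] [Module R M''] [IsScalarTower R (Rn R n) M'']
    [Module.Projective R M''] (f : M' →ₗ[Rn R n] M) (g : M →ₗ[Rn R n] M'') (hf : Function.Injective f)
    (hg : Function.Surjective g) (hfg : LinearMap.range f = LinearMap.ker g) (ψ : M' →ₗ[Rn R n] Rn R n) :
    ∃ Ψ : M →ₗ[Rn R n] Rn R n, Ψ.comp f = ψ := by
  letI : Module R M' := Module.compHom M' (algebraMap R (Rn R n))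
  haveI : IsScalarTower R (Rn R n) M' := ⟨fun c a x => by
    rw [show c • a = algebraMap R (Rn R n) c * a from Algebra.smul_def c a, mul_smul]
    rfl⟩
  obtain ⟨r, hr⟩ := exists_retraction (f.restrictScalars R) (g.restrictScalars R) hf hg
    (by rw [LinearMap.range_restrictScalars, LinearMap.ker_restrictScalars, hfg])
  exact exists_extend hn f r hr ψ

lemma finite_base (M : Type v) [AddCommGroup M] [Module (Rn R n) M] [Module R M]
    [IsScalarTower R (Rn R n) M] [Module.Finite (Rn R n) M] : Module.Finite R M :=
  Module.Finite.trans (Rn R n) M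

section Domain

variable [IsDomain R] [IsPrincipalIdealRing R]
variable {M : Type v} [AddCommGroup M] [Module (Rn R n) M] [Module R M] [IsScalarTower R (Rn R n) M]

lemma free_base [Module.Finite (Rn R n) M] [Module.IsTorsionFree R M] : Module.Free R M := by
  haveI := finite_base (R := R) (n := n) M
  exact Module.free_of_finite_type_torsion_free'

lemma bijective_eval [Module.Finite (Rn R n) M] [Module.IsTorsionFree R M] (hn : 1 ≤ n) :
    Function.Bijective (Module.Dual.eval (Rn R n) M) := by
  haveI := finite_base (R := R) (n := n) M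
  haveI := free_base (R := R) (n := n) (M := M)
  have key : ∀ (m : M) (g : M →ₗ[R] R), Module.Dual.eval R M m g =
      τ R n (Module.Dual.eval (Rn R n) M m (Φ hn g)) := fun m g => by
    simp [τ_comp_Φ]
  have hinj : ∀ (m : M), Module.Dual.eval (Rn R n) M m = 0 → m = 0 := fun m hm => by
    refine (Module.forall_dual_apply_eq_zero_iff R m).1 fun g => ?_
    have := key m g
    rw [hm] at this
    simpa using this
  refine ⟨(injective_iff_map_eq_zero _).2 hinj, fun F => ?_⟩
  let G : Module.Dual R (Module.Dual R M) :=
    { toFun := fun g => τ R n (F (Φ hn g))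
      map_add' := fun g g' => by
        rw [← map_add, ← map_add]
        congr 2
        exact LinearMap.ext fun m => ext_τ hn fun a => by
          simp [τ_mul_Φ, mul_add]
      map_smul' := fun c g => by
        rw [RingHom.id_apply, ← map_smul, ← LinearMap.map_smul_of_tower]
        congr 2
        exact LinearMap.ext fun m => ext_τ hn fun a => by
          simp [τ_mul_Φ, mul_smul_comm] }
  obtain ⟨m, hm⟩ := (Module.bijective_dual_eval R M).2 G
  refine ⟨m, LinearMap.ext fun ψ => ext_τ hn fun a => ?_⟩
  have := LinearMap.congr_fun hm ((τ R n).comp ((a • ψ).restrictScalars R))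
  rw [key] at this
  change _ = τ R n (F (Φ hn _)) at this
  rw [eq_Φ, Module.Dual.eval_apply, map_smul, smul_eq_mul] at this
  rw [Module.Dual.eval_apply]
  simpa using this

lemma isTorsionFree_of_injective_eval [IsDomain R] (hn : 1 ≤ n) (h : Function.Injective (Module.Dual.eval (Rn R n) M)) :
    Module.IsTorsionFree R M := by
  haveI : Module.Free R (Rn R n) := instFree R n
  rw [Module.isTorsionFree_iff_smul_eq_zero]
  intro c m hcm
  refine or_iff_not_imp_left.2 fun hc => h ?_
  refine LinearMap.ext fun ψ => ?_
  have : c • ψ m = 0 := by rw [← LinearMap.map_smul_of_tower, hcm, map_zero]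
  simpa using (smul_eq_zero.1 this).resolve_left hc

end Domain

end MultCrv29

end
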