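import Groth.Agent.Lib.MultCrv29.Filt

/-!
# Kernels of minimal presentations of quasi-free modules
-/

set_option autoImplicit false
set_option linter.style.haveILetI false

universe u v w

noncomputable section

namespace MultCrv29

open MultCrv

variable {R : Type u} [CommRing R] {n : ℕ}

/-- two minimal presentations of a module have isomorphic kernels -/
lemma nonempty_ker_equiv {P : Type v} [AddCommGroup P] [Module (Rn R n) P] {r s : Type w}
    [Fintype r] [DecidableEq r] [Fintype s] [DecidableEq s]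
    (φ : (r → Rn R n) →ₗ[Rn R n] P) (ψ : (s → Rn R n) →ₗ[Rn R n] P)
    (hφ : Function.Surjective φ) (hψ : Function.Surjective ψ)
    (hφz : ∀ f, φ f = 0 → f ∈ filt R n (r → Rn R n) 1) (hψz : ∀ f, ψ f = 0 → f ∈ filt R n (s → Rn R n) 1) :
    Nonempty (LinearMap.ker φ ≃ₗ[Rn R n] LinearMap.ker ψ) := by
  obtain ⟨θ, hθ⟩ := Module.projective_lifting_property ψ φ hψ
  obtain ⟨θ', hθ'⟩ := Module.projective_lifting_property φ ψ hφ
  have h1 : Function.Surjective (θ.comp θ') := surjective_of_mod_z _ fun v => ⟨v, hψz _ (by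
    rw [map_sub, LinearMap.comp_apply, ← LinearMap.comp_apply ψ θ, hθ, ← LinearMap.comp_apply φ θ', hθ', sub_self])⟩
  have h2 : Function.Surjective (θ'.comp θ) := surjective_of_mod_z _ fun v => ⟨v, hφz _ (by
    rw [map_sub, LinearMap.comp_apply, ← LinearMap.comp_apply φ θ', hθ', ← LinearMap.comp_apply ψ θ, hθ, sub_self])⟩
  have hinj : Function.Injective (θ'.comp θ) := OrzechProperty.injective_of_surjective_endomorphism _ h2
  have hbij : Function.Bijective θ :=
    ⟨(Function.Injective.of_comp (f := θ') (by exact hinj)), (Function.Surjective.of_comp (g := θ') (by exact h1))⟩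
  let e := LinearEquiv.ofBijective θ hbij
  have hmap : (LinearMap.ker φ).map (e : (r → Rn R n) →ₗ[Rn R n] (s → Rn R n)) = LinearMap.ker ψ := by
    ext y
    constructor
    · rintro ⟨x, hx, rfl⟩
      rw [LinearMap.mem_ker]
      show ψ (θ x) = 0
      rw [← LinearMap.comp_apply, hθ]
      exact hx
    · intro hy
      obtain ⟨x, rfl⟩ := hbij.2 y
      exact ⟨x, by
        show φ x = 0
        rw [← hθ]
        exact hy, rfl⟩
  exact ⟨(e.submoduleMap (LinearMap.ker φ)).trans (LinearEquiv.ofEq _ _ hmap)⟩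

variable (R n)

/-- multiplication by `z^c` on `A/(z^d)` with values in `A`, for `c + d = n` -/
def ιz (c d : ℕ) (h : n ≤ c + d) : Oi R n d →ₗ[Rn R n] Rn R n :=
  Submodule.liftQ (Ideal.span {z R n ^ d}) (LinearMap.mulLeft (Rn R n) (z R n ^ c)) (by
    intro a ha
    obtain ⟨b, rfl⟩ := Ideal.mem_span_singleton.1 ha
    show z R n ^ c * (z R n ^ d * b) = 0
    rw [← mul_assoc, ← pow_add, z_pow_eq_zero R n h]
    exact zero_mul b)

lemma dvd_of_zpow_mul_eq_zero {c : ℕ} (hc : c ≤ n) (a : Rn R n) (h : z R n ^ c * a = 0) :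
    z R n ^ (n - c) ∣ a := by
  obtain ⟨p, rfl⟩ := Ideal.Quotient.mk_surjective a
  rw [← map_pow, ← map_mul, Ideal.Quotient.eq_zero_iff_mem, Ideal.mem_span_singleton] at h
  have h1 : (Polynomial.X : Polynomial R) ^ (n - c) ∣ p := by
    rw [Polynomial.X_pow_dvd_iff] at h ⊢
    intro d hd
    have := h (d + c) (by omega)
    rwa [Polynomial.coeff_X_pow_mul', if_pos (by omega), Nat.add_sub_cancel] at this
  obtain ⟨q, rfl⟩ := h1
  exact ⟨Ideal.Quotient.mk _ q, by rw [map_mul, map_pow]⟩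

lemma ιz_injective (c d : ℕ) (h : c + d = n) : Function.Injective (ιz R n c d h.ge) := by
  refine (injective_iff_map_eq_zero _).2 fun q hq => ?_
  obtain ⟨a, rfl⟩ := Ideal.Quotient.mk_surjective q
  have hq' : z R n ^ c * a = 0 := hq
  rw [Ideal.Quotient.eq_zero_iff_mem, Ideal.mem_span_singleton]
  have := dvd_of_zpow_mul_eq_zero R n (by omega : c ≤ n) a hq'
  rwa [show n - c = d by omega] at this

lemma ιz_range (c d : ℕ) (h : n ≤ c + d) : LinearMap.range (ιz R n c d h) = Ideal.span {z R n ^ c} := by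
  ext x
  rw [Ideal.mem_span_singleton]
  constructor
  · rintro ⟨q, rfl⟩
    obtain ⟨a, rfl⟩ := Ideal.Quotient.mk_surjective q
    exact ⟨a, rfl⟩
  · rintro ⟨a, rfl⟩
    exact ⟨Ideal.Quotient.mk _ a, rfl⟩

/-- the standard presentation of the model module -/
def stdPres (m : Fin n → ℕ) : ((Σ i : Fin n, Fin (m i)) → Rn R n) →ₗ[Rn R n]
    ((i : Fin n) → Fin (m i) → Oi R n (i.1 + 1)) :=
  LinearMap.pi fun i => LinearMap.pi fun k =>
    (Submodule.mkQ (Ideal.span {z R n ^ (i.1 + 1)})).comp (LinearMap.proj ⟨i, k⟩)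

lemma stdPres_surjective (m : Fin n → ℕ) : Function.Surjective (stdPres R n m) := fun y => by
  choose a ha using fun i k => Submodule.mkQ_surjective (Ideal.span {z R n ^ ((i : Fin n).1 + 1)}) (y i k)
  exact ⟨fun x => a x.1 x.2, funext fun i => funext fun k => ha i k⟩

lemma mem_filt_pi {s : Type w} (f : s → Rn R n) (hf : ∀ x, z R n ∣ f x) :
    f ∈ filt R n (s → Rn R n) 1 := by
  choose g hg using hf
  refine ⟨g, funext fun x => ?_⟩
  change z R n ^ 1 * g x = f x
  rw [pow_one, hg]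

lemma stdPres_minimal (m : Fin n → ℕ) (f) (hf : stdPres R n m f = 0) :
    f ∈ filt R n ((Σ i : Fin n, Fin (m i)) → Rn R n) 1 := by
  refine mem_filt_pi R n f fun x => ?_
  have h : Submodule.mkQ (Ideal.span {z R n ^ (x.1.1 + 1)}) (f ⟨x.1, x.2⟩) = 0 := congrFun (congrFun hf x.1) x.2
  rw [Submodule.mkQ_apply, Submodule.Quotient.mk_eq_zero, Ideal.mem_span_singleton] at h
  exact (dvd_pow_self _ (by omega)).trans h

lemma revType_eq (m : Fin n → ℕ) (i : Fin n) (h : i.1 + 1 < n) :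
    revType n m ⟨n - 2 - i.1, by omega⟩ = m i := by
  have h1 : (n - 2 - i.1) + 1 < n := by omega
  rw [revType, dif_pos h1]
  congr 1
  exact Fin.ext (by simp only; omega)

lemma revType_last (m : Fin n → ℕ) (i : Fin n) (h : ¬ i.1 + 1 < n) : revType n m i = 0 := by
  rw [revType, dif_neg h]

/-- the kernel of the standard presentation -/
def revEmb (m : Fin n → ℕ) : ((i : Fin n) → Fin (revType n m i) → Oi R n (i.1 + 1)) →ₗ[Rn R n]
    ((Σ i : Fin n, Fin (m i)) → Rn R n) :=
  LinearMap.pi fun x => if h : x.1.1 + 1 < n then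
    (ιz R n (x.1.1 + 1) (n - 2 - x.1.1 + 1) (by omega)).comp
      ({ toFun := fun q => q (⟨n - 2 - x.1.1, by omega⟩ : Fin n) (Fin.cast (revType_eq n m x.1 h).symm x.2)
         map_add' := fun _ _ => rfl
         map_smul' := fun _ _ => rfl } :
        ((i : Fin n) → Fin (revType n m i) → Oi R n (i.1 + 1)) →ₗ[Rn R n] Oi R n (n - 2 - x.1.1 + 1))
    else 0

lemma revEmb_apply (m : Fin n → ℕ) (q) (x : Σ i : Fin n, Fin (m i)) (h : x.1.1 + 1 < n) :
    revEmb R n m q x = ιz R n (x.1.1 + 1) (n - 2 - x.1.1 + 1) (by omega)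
      (q ⟨n - 2 - x.1.1, by omega⟩ (Fin.cast (revType_eq n m x.1 h).symm x.2)) := by
  rw [revEmb, LinearMap.pi_apply, dif_pos h]
  rfl

lemma revEmb_injective (m : Fin n → ℕ) : Function.Injective (revEmb R n m) := by
  refine (injective_iff_map_eq_zero _).2 fun q hq => funext fun i' => funext fun k' => ?_
  obtain ⟨j, hj⟩ := i'
  by_cases h : j + 1 < n
  swap
  · exact (Fin.cast (revType_last n m ⟨j, hj⟩ h) k').elim0
  obtain ⟨i, hi, rfl⟩ : ∃ i, i + 1 < n ∧ j = n - 2 - i := ⟨n - 2 - j, by omega, by omega⟩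
  have hk : revType n m ⟨n - 2 - i, hj⟩ = m ⟨i, by omega⟩ := revType_eq n m ⟨i, by omega⟩ hi
  have h0 := congrFun hq ⟨⟨i, by omega⟩, Fin.cast hk k'⟩
  rw [revEmb_apply R n m q ⟨⟨i, by omega⟩, Fin.cast hk k'⟩ hi] at h0
  exact ιz_injective R n (i + 1) (n - 2 - i + 1) (by omega) (h0.trans (map_zero _).symm)

lemma range_revEmb (m : Fin n → ℕ) : LinearMap.range (revEmb R n m) = LinearMap.ker (stdPres R n m) := by
  ext f
  constructor
  · rintro ⟨q, rfl⟩
    refine funext fun i => funext fun k => ?_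
    change Submodule.mkQ (Ideal.span {z R n ^ (i.1 + 1)}) (revEmb R n m q ⟨i, k⟩) = 0
    rw [Submodule.mkQ_apply, Submodule.Quotient.mk_eq_zero]
    by_cases h : i.1 + 1 < n
    · rw [revEmb_apply R n m q ⟨i, k⟩ h]
      rw [← ιz_range R n (i.1 + 1) (n - 2 - i.1 + 1) (by omega)]
      exact LinearMap.mem_range_self _ _
    · rw [revEmb, LinearMap.pi_apply, dif_neg h]
      exact Submodule.zero_mem _
  · intro hf
    have h0 : ∀ x, f x ∈ Ideal.span {z R n ^ (x.1.1 + 1)} := fun x => by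
      have h : Submodule.mkQ (Ideal.span {z R n ^ (x.1.1 + 1)}) (f ⟨x.1, x.2⟩) = 0 := congrFun (congrFun hf x.1) x.2
      rwa [Submodule.mkQ_apply, Submodule.Quotient.mk_eq_zero] at h
    have h1 : ∀ (i' : Fin n) (k' : Fin (revType n m i')), ∃ o : Oi R n (i'.1 + 1),
        ∀ (h : i'.1 + 1 < n) (hk : revType n m i' = m ⟨n - 2 - i'.1, by omega⟩),
          ιz R n (n - 2 - i'.1 + 1) (i'.1 + 1) (by omega) o = f ⟨⟨n - 2 - i'.1, by omega⟩, Fin.cast hk k'⟩ := by
      intro i' k'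
      by_cases h : i'.1 + 1 < n
      · have hk : revType n m i' = m ⟨n - 2 - i'.1, by omega⟩ := by rw [revType, dif_pos h]
        have := h0 ⟨⟨n - 2 - i'.1, by omega⟩, Fin.cast hk k'⟩
        rw [← ιz_range R n (n - 2 - i'.1 + 1) (i'.1 + 1) (by omega)] at this
        obtain ⟨o, ho⟩ := this
        exact ⟨o, fun _ _ => ho⟩
      · exact ⟨0, fun h' => absurd h' h⟩
    choose o ho using h1
    refine ⟨o, funext fun x => ?_⟩
    obtain ⟨⟨i, hi⟩, k⟩ := x
    by_cases h : i + 1 < n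
    · rw [revEmb_apply R n m o ⟨⟨i, hi⟩, k⟩ h]
      obtain ⟨j, hj, rfl⟩ : ∃ j, j + 1 < n ∧ i = n - 2 - j := ⟨n - 2 - i, by omega, by omega⟩
      have e : n - 2 - (n - 2 - j) = j := by omega
      have hk : revType n m ⟨j, by omega⟩ = m ⟨n - 2 - j, hi⟩ := by rw [revType, dif_pos (show j + 1 < n from hj)]
      have hgen : ∀ (j' : ℕ) (hj' : j' < n) (hn' : n ≤ n - 2 - j + 1 + (j' + 1)) (hc : m ⟨n - 2 - j, hi⟩ = revType n m ⟨j', hj'⟩),
          j' = j → ιz R n (n - 2 - j + 1) (j' + 1) hn' (o ⟨j', hj'⟩ (Fin.cast hc k)) = f ⟨⟨n - 2 - j, hi⟩, k⟩ := by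
        intro j' hj' hn' hc he
        subst he
        rw [ho ⟨j', hj'⟩ (Fin.cast hc k) hj hk]
        rfl
      exact hgen _ _ _ (revType_eq n m ⟨n - 2 - j, hi⟩ h).symm e
    · rw [revEmb, LinearMap.pi_apply, dif_neg h]
      have := h0 ⟨⟨i, hi⟩, k⟩
      rw [Ideal.mem_span_singleton] at this
      obtain ⟨b, hb⟩ := this
      rw [LinearMap.zero_apply, hb, z_pow_eq_zero R n (show n ≤ i + 1 by omega)]
      exact (zero_mul b).symm

theorem isQuasiFree_ker (m : Fin n → ℕ) (M : Type v) [AddCommGroup M] [Module (Rn R n) M]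
    (hM : IsQuasiFreeOfType R n M m) (r : ℕ) (φ : (Fin r → Rn R n) →ₗ[Rn R n] M)
    (hφ : Function.Surjective φ)
    (hφz : ∀ f : Fin r → Rn R n, φ f ∈ filt R n M 1 → f ∈ filt R n (Fin r → Rn R n) 1) :
    IsQuasiFreeOfType R n (LinearMap.ker φ) (revType n m) := by
  obtain ⟨e⟩ := hM
  let e' := e.trans (QFModel.equivPi R n m)
  let φ' := e'.toLinearMap.comp φ
  have hk : LinearMap.ker φ' = LinearMap.ker φ := LinearEquiv.ker_comp e' φ
  let P := (i : Fin n) → Fin (m i) → Oi R n (i.1 + 1)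
  letI : AddCommGroup P := inferInstanceAs (AddCommGroup ((i : Fin n) → Fin (m i) → Oi R n (i.1 + 1)))
  letI : Module (Rn R n) P := inferInstanceAs (Module (Rn R n) ((i : Fin n) → Fin (m i) → Oi R n (i.1 + 1)))
  have hmin : ∀ f : Fin r → Rn R n, φ' f = 0 → f ∈ filt R n (Fin r → Rn R n) 1 := fun f hf => hφz f (by
    have h' : e' (φ f) = 0 := hf
    rw [(LinearEquiv.map_eq_zero_iff e').1 h']
    exact Submodule.zero_mem _)
  obtain ⟨k⟩ := nonempty_ker_equiv (R := R) (n := n) (P := P) (r := Fin r) (s := Σ i : Fin n, Fin (m i)) φ' (stdPres R n m) (e'.surjective.comp hφ) (stdPres_surjective R n m)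
    hmin (stdPres_minimal R n m)
  exact ⟨((((LinearEquiv.ofEq _ _ hk).symm.trans k).trans (LinearEquiv.ofEq _ _ (range_revEmb R n m)).symm).trans
    (LinearEquiv.ofInjective _ (revEmb_injective R n m)).symm).trans (QFModel.equivPi R n (revType n m)).symm⟩

end MultCrv29

end
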